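import Cfsg.Agent.Lib.NC.Reduce
import Cfsg.Agent.Lib.Char.Degree

/-!
# A noncentral element seen by exactly one nonlinear irreducible character
-/

set_option autoImplicit false
set_option linter.unusedSectionVars false

namespace Cfsg.Agent.Lib.NC.Chr

open Cfsg Module
open Cfsg.Agent.Lib.Char.Basic Cfsg.Agent.Lib.Char.Decomp Cfsg.Agent.Lib.Char.Ortho
open Cfsg.Agent.Lib.Char.Complete Cfsg.Agent.Lib.Char.Linear Cfsg.Agent.Lib.Char.Degree
open scoped ComplexConjugate

universe u

variable {G : Type u} [Group G] [Finite G]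

/-- The bijection between the irreducible characters of `G / G'` and the linear characters of `G`. -/
theorem exists_linEquiv : ∃ e : IrrCharacter (G ⧸ commutator G) ≃ {χ : IrrCharacter G // (χ : G → ℂ) 1 = 1},
    ∀ φ x, ((e φ : IrrCharacter G) : G → ℂ) x = (φ : G ⧸ commutator G → ℂ) (x : G ⧸ commutator G) := by
  classical
  let A := G ⧸ commutator G
  let π : G →* A := QuotientGroup.mk' (commutator G)
  have hπ : Function.Surjective π := QuotientGroup.mk'_surjective _
  have hcomm : ∀ a b : A, a * b = b * a := fun a b =>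
    mul_comm (G := Abelianization G) a b
  let f : IrrCharacter A → {χ : IrrCharacter G // (χ : G → ℂ) 1 = 1} := fun φ =>
    ⟨⟨(φ : A → ℂ) ∘ π, isIrrCharacter_comp π hπ φ.2⟩, by
      change (φ : A → ℂ) (π 1) = 1
      rw [map_one]
      exact isIrr_deg_one_of_comm hcomm φ.2⟩
  refine ⟨Equiv.ofBijective f ⟨?_, ?_⟩, fun φ x => rfl⟩
  · intro φ ψ hφψ
    apply Subtype.ext
    have h1 : (φ : A → ℂ) ∘ π = (ψ : A → ℂ) ∘ π :=
      congrArg (fun x : {χ : IrrCharacter G // (χ : G → ℂ) 1 = 1} => ((x.1 : IrrCharacter G) : G → ℂ)) hφψ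
    exact hπ.injective_comp_right h1
  · rintro ⟨χ, hχ⟩
    have hcomm' : ∀ k ∈ π.ker, (χ : G → ℂ) k = (χ : G → ℂ) 1 := by
      intro k hk
      have hk' : k ∈ commutator G := by
        rw [MonoidHom.mem_ker] at hk
        exact (QuotientGroup.eq_one_iff k).mp hk
      obtain ⟨lam, hlam⟩ := exists_hom_of_deg_one (isCharacter_of_isIrrCharacter χ.2) hχ
      have hker : commutator G ≤ lam.ker := Abelianization.commutator_subset_ker lam
      have := hker hk'
      rw [MonoidHom.mem_ker] at this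
      rw [hlam]
      simp [this]
    obtain ⟨φ, hφ, hφχ⟩ := isIrrCharacter_descend π hπ χ.2 hcomm'
    refine ⟨⟨φ, hφ⟩, ?_⟩
    apply Subtype.ext
    apply Subtype.ext
    exact hφχ.symm

/-- A linear character is trivial on the commutator subgroup. -/
lemma linear_eq_one (lam0 : IrrCharacter G) (h1 : (lam0 : G → ℂ) 1 = 1) {x : G} (hx : x ∈ commutator G) :
    (lam0 : G → ℂ) x = 1 := by
  obtain ⟨lam, hlam⟩ := exists_hom_of_deg_one (isCharacter_of_isIrrCharacter lam0.2) h1
  have hker : commutator G ≤ lam.ker := Abelianization.commutator_subset_ker lam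
  have := hker hx
  rw [MonoidHom.mem_ker] at this
  rw [hlam]
  simp [this]

lemma linear_mul (lam0 : IrrCharacter G) (h1 : (lam0 : G → ℂ) 1 = 1) (x y : G) :
    (lam0 : G → ℂ) (x * y) = (lam0 : G → ℂ) x * (lam0 : G → ℂ) y :=
  deg_one_mul (isCharacter_of_isIrrCharacter lam0.2) h1 x y

/-- The sum of the linear characters. -/
theorem sum_linear [Fintype {χ : IrrCharacter G // (χ : G → ℂ) 1 = 1}] [DecidablePred (· ∈ commutator G)] (x : G) :
    ∑ l : {χ : IrrCharacter G // (χ : G → ℂ) 1 = 1}, ((l : IrrCharacter G) : G → ℂ) x =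
      if x ∈ commutator G then ((commutator G).index : ℂ) else 0 := by
  classical
  split_ifs with hx
  · rw [Finset.sum_congr rfl (fun l _ => linear_eq_one l.1 l.2 hx)]
    simp only [Finset.sum_const, Finset.card_univ, nsmul_eq_mul, mul_one]
    rw [← Nat.card_eq_fintype_card, card_linear_eq_index]
  · obtain ⟨e, he⟩ := exists_linEquiv (G := G)
    letI := Fintype.ofFinite (G ⧸ commutator G)
    haveI := finite_irrCharacter (G := G ⧸ commutator G)
    letI := Fintype.ofFinite (IrrCharacter (G ⧸ commutator G))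
    rw [← Equiv.sum_comp e]
    simp only [he]
    have h1 := sum_irr_mul_conj (x : G ⧸ commutator G) (1 : G ⧸ commutator G)
    have hnc : ¬ IsConj (x : G ⧸ commutator G) 1 := by
      intro h
      exact hx ((QuotientGroup.eq_one_iff x).1 (isConj_one_right.1 h.symm))
    rw [if_neg hnc] at h1
    have hcomm : ∀ a b : G ⧸ commutator G, a * b = b * a := fun a b =>
      mul_comm (G := Abelianization G) a b
    rw [← h1]
    refine Finset.sum_congr rfl fun φ _ => ?_
    rw [isIrr_deg_one_of_comm hcomm φ.2, map_one, mul_one]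

/-- **The main theorem.** -/
theorem main (g : G) (hg : g ∉ Subgroup.center G) (χ : IrrCharacter G)
    (hχ1 : charDegree (χ : G → ℂ) ≠ 1) (hχg : (χ : G → ℂ) g ≠ 0)
    (hother : ∀ ψ : IrrCharacter G, charDegree (ψ : G → ℂ) ≠ 1 → ψ ≠ χ → (ψ : G → ℂ) g = 0) :
    g ∈ commutator G ∧ (χ : G → ℂ) g = -(((commutator G).index : ℂ) / (χ : G → ℂ) 1) ∧
      ((commutator G : Set G) = {x : G | (χ : G → ℂ) x = (χ : G → ℂ) 1} ∪ {h : G | IsConj g h}) ∧
      (∀ x : G, x ∉ commutator G → (χ : G → ℂ) x = 0) ∧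
      (∀ ψ : IrrCharacter G, charDegree (ψ : G → ℂ) ≠ 1 →
        (∀ x : G, (χ : G → ℂ) x = (χ : G → ℂ) 1 → (ψ : G → ℂ) x = (ψ : G → ℂ) 1) → ψ = χ) ∧
      Group.IsSolvable G := by
  classical
  letI := Fintype.ofFinite G
  haveI := finite_irrCharacter (G := G)
  letI := Fintype.ofFinite (IrrCharacter G)
  obtain ⟨n, hnpos, hn⟩ := exists_pos_deg_of_isIrr χ.2
  have hn1 : n ≠ 1 := by
    rintro rfl
    exact hχ1 (charDegree_eq_of_eq_natCast hn)
  have hn0C : (n : ℂ) ≠ 0 := Nat.cast_ne_zero.2 hnpos.ne'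
  have hχ1' : (χ : G → ℂ) 1 ≠ 1 := by
    rw [hn]
    exact_mod_cast hn1
  have hdeg : ∀ ψ : IrrCharacter G, (ψ : G → ℂ) 1 ≠ 1 → charDegree (ψ : G → ℂ) ≠ 1 := by
    intro ψ hψ hc
    apply hψ
    rw [← charDegree_natCast (isCharacter_of_isIrrCharacter ψ.2), hc]
    simp
  have hdeg' : ∀ ψ : IrrCharacter G, charDegree (ψ : G → ℂ) ≠ 1 → (ψ : G → ℂ) 1 ≠ 1 := by
    intro ψ hψ hc
    apply hψ
    apply charDegree_eq_of_eq_natCast (n := 1)
    rw [hc]
    simp
  have hsplit : ∀ F : IrrCharacter G → ℂ, (∀ ψ : IrrCharacter G, (ψ : G → ℂ) 1 ≠ 1 → ψ ≠ χ → F ψ = 0) →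
      ∑ ψ, F ψ = (∑ l : {ψ : IrrCharacter G // (ψ : G → ℂ) 1 = 1}, F l) + F χ := by
    intro F hF
    rw [← Fintype.sum_subtype_add_sum_subtype (fun ψ : IrrCharacter G => (ψ : G → ℂ) 1 = 1) F]
    congr 1
    rw [Finset.sum_eq_single (⟨χ, hχ1'⟩ : {ψ : IrrCharacter G // ¬ (ψ : G → ℂ) 1 = 1})]
    · rintro ⟨ψ, hψ⟩ - hne
      exact hF ψ hψ (fun h => hne (Subtype.ext h))
    · intro h
      exact absurd (Finset.mem_univ _) h
  set lC : ℂ := ((commutator G).index : ℂ) with hlC
  have hl0 : lC ≠ 0 := by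
    rw [hlC]
    exact Nat.cast_ne_zero.2 (Subgroup.index_ne_zero_of_finite)
  have hΛ := sum_linear (G := G)
  -- Step A
  have hg1 : g ≠ 1 := fun h => hg (h ▸ Subgroup.one_mem _)
  have hA : (∑ l : {ψ : IrrCharacter G // (ψ : G → ℂ) 1 = 1}, ((l : IrrCharacter G) : G → ℂ) g) +
      (χ : G → ℂ) g * n = 0 := by
    have h1 := sum_irr_mul_conj g (1 : G)
    have hnc : ¬ IsConj g 1 := fun h => hg1 (isConj_one_right.1 h.symm)
    rw [if_neg hnc] at h1
    rw [hsplit _ (fun ψ hψ hne => by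
      rw [hother ψ (hdeg ψ hψ) hne, zero_mul])] at h1
    rw [← h1]
    congr 1
    · refine Finset.sum_congr rfl fun l _ => ?_
      rw [l.2, map_one, mul_one]
    · rw [hn, Complex.conj_natCast]
  have hgD : g ∈ commutator G := by
    by_contra hgD
    rw [hΛ, if_neg hgD, zero_add] at hA
    exact (mul_ne_zero hχg hn0C) hA
  rw [hΛ, if_pos hgD] at hA
  have hχgval : (χ : G → ℂ) g = -(lC / (χ : G → ℂ) 1) := by
    rw [hn]
    field_simp
    linear_combination hA
  have hconjg : conj ((χ : G → ℂ) g) = (χ : G → ℂ) g := by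
    rw [hχgval, hn]
    simp [hlC]
  have hconj0 : conj ((χ : G → ℂ) g) ≠ 0 := by
    rw [hconjg]; exact hχg
  -- Step C
  have hC : ∀ x : G, ¬ IsConj x g → (if x ∈ commutator G then lC else 0) + (χ : G → ℂ) x * (χ : G → ℂ) g = 0 := by
    intro x hxg
    have h1 := sum_irr_mul_conj x g
    rw [if_neg hxg, hsplit _ (fun ψ hψ hne => by
      rw [hother ψ (hdeg ψ hψ) hne, map_zero, mul_zero])] at h1
    refine Eq.trans ?_ h1
    rw [hconjg, ← hΛ]
    congr 1
    refine Finset.sum_congr rfl fun l _ => ?_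
    rw [linear_eq_one l.1 l.2 hgD, map_one, mul_one]
  haveI hDn : (commutator G).Normal := inferInstance
  have hconjD : ∀ x, IsConj x g → x ∈ commutator G := by
    intro x hx
    obtain ⟨a, rfl⟩ := isConj_iff.1 hx.symm
    exact hDn.conj_mem _ hgD a
  have hD : ∀ x : G, x ∉ commutator G → (χ : G → ℂ) x = 0 := by
    intro x hx
    have h1 := hC x (fun h => hx (hconjD x h))
    rw [if_neg hx, zero_add] at h1
    exact (mul_eq_zero.1 h1).resolve_right hχg
  have hE : ∀ x : G, x ∈ commutator G → ¬ IsConj x g → (χ : G → ℂ) x = (χ : G → ℂ) 1 := by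
    intro x hx hxg
    have h1 := hC x hxg
    rw [if_pos hx] at h1
    rw [hn]
    have h2 : (χ : G → ℂ) g * ((χ : G → ℂ) x - n) = 0 := by
      have h3 : (χ : G → ℂ) g * (χ : G → ℂ) x = -lC := by linear_combination h1
      have h4 : (χ : G → ℂ) g * n = -lC := by linear_combination hA
      rw [mul_sub, h3, h4]; ring
    have h5 := (mul_eq_zero.1 h2).resolve_left hχg
    exact sub_eq_zero.1 h5
  have hχchar := isCharacter_of_isIrrCharacter χ.2
  set K : Subgroup G := charKer hχchar with hK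
  haveI hKn : K.Normal := charKer_normal hχchar
  have hmemK : ∀ x, x ∈ K ↔ (χ : G → ℂ) x = (χ : G → ℂ) 1 := fun x => Iff.rfl
  have hχ10 : (χ : G → ℂ) 1 ≠ 0 := by rw [hn]; exact hn0C
  have hKG : K ≤ commutator G := by
    intro x hx
    by_contra hxD
    rw [hmemK, hD x hxD] at hx
    exact hχ10 hx.symm
  have hgK : g ∉ K := by
    rw [hmemK, hn]
    intro h1
    rw [h1] at hA
    have h2 : (((commutator G).index + n * n : ℕ) : ℂ) = 0 := by
      push_cast
      exact hA
    have h3 : (commutator G).index + n * n = 0 := by exact_mod_cast h2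
    have h4 : 0 < n * n := Nat.mul_pos hnpos hnpos
    omega
  have hset : (commutator G : Set G) = {x : G | (χ : G → ℂ) x = (χ : G → ℂ) 1} ∪ {h : G | IsConj g h} := by
    ext x
    constructor
    · intro hx
      by_cases hxg : IsConj x g
      · exact Or.inr hxg.symm
      · exact Or.inl (hE x hx hxg)
    · rintro (h1 | h1)
      · exact hKG h1
      · exact hconjD x (IsConj.symm h1)
  have ha : ∀ x ∈ commutator G, x ∉ K → IsConj g x := by
    intro x hx hxK
    by_contra hxg
    exact hxK (hE x hx (fun h => hxg h.symm))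
  -- Step G
  have hG : ∀ ψ : IrrCharacter G, charDegree (ψ : G → ℂ) ≠ 1 →
      (∀ x : G, (χ : G → ℂ) x = (χ : G → ℂ) 1 → (ψ : G → ℂ) x = (ψ : G → ℂ) 1) → ψ = χ := by
    intro ψ hψ hψK
    by_contra hne
    have hψg := hother ψ hψ hne
    have hψ1 := hdeg' ψ hψ
    have hψ0 : (ψ : G → ℂ) 1 ≠ 0 := irr_one_ne_zero ψ.2
    have hψclass := isClassFunction_iff_isConj.mp (isClassFunction_of_isIrrCharacter ψ.2)
    have horth : ∀ l : {ψ : IrrCharacter G // (ψ : G → ℂ) 1 = 1},
        ∑ x : G, (ψ : G → ℂ) x * conj (((l : IrrCharacter G) : G → ℂ) x) = 0 := by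
      intro l
      have h1 := classInner_eq_zero_of_isIrr_of_ne ψ.2 l.1.2 (by
        intro h
        apply hψ1
        rw [h]
        exact l.2)
      unfold classInner at h1
      have h2 : ((Nat.card G : ℂ))⁻¹ ≠ 0 := inv_ne_zero (Nat.cast_ne_zero.2 Nat.card_pos.ne')
      exact (mul_eq_zero.1 h1).resolve_left h2
    have hsum : ∑ x : G, (if x ∈ K then lC * (ψ : G → ℂ) 1 else 0) = 0 := by
      have h1 : ∑ l : {ψ : IrrCharacter G // (ψ : G → ℂ) 1 = 1},
          ∑ x : G, (ψ : G → ℂ) x * conj (((l : IrrCharacter G) : G → ℂ) x) = 0 :=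
        Finset.sum_eq_zero (fun l _ => horth l)
      rw [Finset.sum_comm] at h1
      refine Eq.trans ?_ h1
      refine Finset.sum_congr rfl fun x _ => ?_
      rw [← Finset.mul_sum, ← map_sum, hΛ]
      by_cases hxK : x ∈ K
      · rw [if_pos hxK, if_pos (hKG hxK), hψK x hxK, hlC, Complex.conj_natCast, mul_comm]
      · rw [if_neg hxK]
        by_cases hxD : x ∈ commutator G
        · have h3 := ha x hxD hxK
          rw [← hψclass _ _ h3, hψg, zero_mul]
        · rw [if_neg hxD, map_zero, mul_zero]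
    rw [Finset.sum_ite, Finset.sum_const_zero, add_zero, Finset.sum_const, nsmul_eq_mul] at hsum
    have h4 : ((Finset.univ.filter (fun x => x ∈ K)).card : ℂ) ≠ 0 := by
      have : (1 : G) ∈ Finset.univ.filter (fun x => x ∈ K) := by simp [K.one_mem]
      exact Nat.cast_ne_zero.2 (Finset.card_ne_zero_of_mem this)
    exact (mul_ne_zero h4 (mul_ne_zero hl0 hψ0)) hsum
  -- Step H
  have hb : ∀ x, x ∉ commutator G → ∀ k ∈ commutator G, ∃ y, (x * k)⁻¹ * (y * x * y⁻¹) ∈ K := by
    intro x hx k hk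
    have hxk : x * k ∉ commutator G := by
      intro h1
      apply hx
      have : x = x * k * k⁻¹ := by group
      rw [this]
      exact (commutator G).mul_mem h1 ((commutator G).inv_mem hk)
    have h1 : IsConj (x : G ⧸ K) ((x * k : G) : G ⧸ K) := by
      rw [isConj_iff_forall_irr]
      intro φ
      let π : G →* G ⧸ K := QuotientGroup.mk' K
      have hπ : Function.Surjective π := QuotientGroup.mk'_surjective K
      let ψ : IrrCharacter G := ⟨(φ : G ⧸ K → ℂ) ∘ π, isIrrCharacter_comp π hπ φ.2⟩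
      have hψ : ∀ y : G, (ψ : G → ℂ) y = (φ : G ⧸ K → ℂ) (y : G ⧸ K) := fun _ => rfl
      rw [← hψ, ← hψ]
      by_cases hψ1 : (ψ : G → ℂ) 1 = 1
      · rw [linear_mul ψ hψ1, linear_eq_one ψ hψ1 hk, mul_one]
      · have h2 := hG ψ (hdeg ψ hψ1) (by
          intro y hy
          have h3 : (y : G ⧸ K) = 1 := (QuotientGroup.eq_one_iff y).2 hy
          rw [hψ, hψ, h3]
          rfl)
        rw [h2, hD x hx, hD _ hxk]
    obtain ⟨y', hy'⟩ := isConj_iff.1 h1
    obtain ⟨y, rfl⟩ := QuotientGroup.mk_surjective y'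
    refine ⟨y, ?_⟩
    exact QuotientGroup.eq.1 hy'.symm
  exact ⟨hgD, hχgval, hset, hD, hG,
    Cfsg.Agent.Lib.NC.Reduce.solvable_of_data K g hKG hgD hgK ha hb⟩

end Cfsg.Agent.Lib.NC.Chr
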