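import Cfsg.Agent.Lib.NC.Two
import Cfsg.Agent.Lib.GH.Basic
import Cfsg.Agent.Lib.Coprime.FrobCountGroup

/-!
# From the core theorem to solvability

`K ⊲ G`, `K ≤ G'`, all elements of `G' ∖ K` are conjugate, and `x G' ⊆ x^G K` for `x ∉ G'`. Then `G` is solvable.
-/

set_option autoImplicit false
set_option linter.unusedSectionVars false

namespace Cfsg.Agent.Lib.NC.Reduce

open Subgroup Cfsg Cfsg.Agent.Lib.Transfer.Basic Cfsg.Agent.Lib.NC.Core
open scoped commutatorElement Pointwise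

section Trans

variable {G : Type*} [Group G] [Finite G] {N : Subgroup G} [hNn : N.Normal] {p : ℕ} [hp : Fact p.Prime]

/-- Key transitivity: for `g₀ ∈ P ∖ N` central in `P` modulo `N`, the `P`-class of `g₀` is
`g₀ (P ∩ N)`. -/
theorem exists_conj_eq_mul' {g₀ : G} (h₀ : ∀ n ∈ N, ∃ x : G, x * g₀ * x⁻¹ = g₀ * n) (P : Sylow p G)
    (hg₀P : g₀ ∈ (P : Subgroup G)) (hg₀N : g₀ ∉ N)
    (hcent : ∀ y ∈ (P : Subgroup G), y * g₀ * y⁻¹ * g₀⁻¹ ∈ N) {b : G} (hbN : b ∈ N)
    (hbP : b ∈ (P : Subgroup G)) : ∃ w ∈ (P : Subgroup G), w * g₀ * w⁻¹ = g₀ * b := by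
  classical
  set T := Cfsg.Agent.Lib.FGStruct.Camina.stabCoset N g₀ with hT
  set C : Subgroup G := centralizer {g₀} with hC
  have hmemC : ∀ x : G, x ∈ C ↔ x * g₀ = g₀ * x := by
    intro x
    rw [hC, mem_centralizer_singleton_iff]
  have hCT : C ≤ T := by
    intro c hc
    rw [hT, Cfsg.Agent.Lib.FGStruct.Camina.mem_stabCoset, (hmemC c).1 hc]
    simp [N.one_mem]
  -- fibres in `T`
  let φ : T → N := fun t => ⟨g₀⁻¹ * t * g₀ * (t : G)⁻¹, by
    have := hNn.conj_mem _ t.2 g₀⁻¹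
    have e : g₀⁻¹ * (t : G) * g₀ * (t : G)⁻¹ =
        g₀⁻¹ * ((t : G) * g₀ * (t : G)⁻¹ * g₀⁻¹) * g₀⁻¹⁻¹ := by group
    rw [e]; exact this⟩
  have hφ : Function.Surjective φ := by
    rintro ⟨n, hn⟩
    obtain ⟨x, hx⟩ := h₀ n hn
    have hxT : x ∈ T := by
      rw [hT, Cfsg.Agent.Lib.FGStruct.Camina.mem_stabCoset, hx]
      have e : g₀ * n * g₀⁻¹ = g₀ * n * g₀⁻¹ := rfl
      exact hNn.conj_mem _ hn g₀
    refine ⟨⟨x, hxT⟩, Subtype.ext ?_⟩
    change g₀⁻¹ * x * g₀ * x⁻¹ = n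
    have e : g₀⁻¹ * x * g₀ * x⁻¹ = g₀⁻¹ * (x * g₀ * x⁻¹) := by group
    rw [e, hx]; group
  have hcardT : Nat.card T = Nat.card N * Nat.card C := by
    have h1 := Cfsg.Agent.Lib.FGStruct.Camina.card_eq_range_mul φ (C.subgroupOf T) (by
      intro x y
      rw [mem_subgroupOf, hmemC]
      have e1 : φ x = φ y ↔ g₀⁻¹ * (x : G) * g₀ * (x : G)⁻¹ = g₀⁻¹ * (y : G) * g₀ * (y : G)⁻¹ :=
        Subtype.ext_iff
      rw [e1]
      simp only [Subgroup.coe_mul, Subgroup.coe_inv]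
      constructor
      · intro e
        have e2 : (x : G) * g₀ * (x : G)⁻¹ = (y : G) * g₀ * (y : G)⁻¹ := by
          have := congrArg (fun z => g₀ * z) e
          simpa [mul_assoc] using this
        have e3 : g₀ = (x : G)⁻¹ * ((y : G) * g₀ * (y : G)⁻¹) * x := by
          rw [← e2]; group
        calc (x : G)⁻¹ * y * g₀ = ((x : G)⁻¹ * y) * g₀ * ((x : G)⁻¹ * y)⁻¹ * ((x : G)⁻¹ * y) := by
              group
          _ = ((x : G)⁻¹ * ((y : G) * g₀ * (y : G)⁻¹) * x) * ((x : G)⁻¹ * y) := by group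
          _ = g₀ * ((x : G)⁻¹ * y) := by rw [← e3]
      · intro e
        have e2 : (y : G) * g₀ = (x : G) * (g₀ * ((x : G)⁻¹ * y)) := by
          rw [← e]; group
        have e3 : (y : G) * g₀ * (y : G)⁻¹ = (x : G) * g₀ * (x : G)⁻¹ := by
          rw [e2]; group
        have : g₀⁻¹ * (y : G) * g₀ * (y : G)⁻¹ = g₀⁻¹ * ((y : G) * g₀ * (y : G)⁻¹) := by group
        rw [this, e3]; group)
    have h2 : Nat.card (C.subgroupOf T) = Nat.card C := by
      refine Nat.card_congr (subgroupOfEquivOfLe hCT).toEquiv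
    have h3 : Nat.card (Set.range φ) = Nat.card N := by
      rw [hφ.range_eq]
      exact Nat.card_congr (Equiv.Set.univ _)
    rw [h1, h2, h3]
  set B : Subgroup G := N ⊓ P with hB
  set S : Subgroup G := (P : Subgroup G) ⊓ C with hS
  -- divisibility
  have hdvd : Nat.card B * Nat.card S ∣ Nat.card (P : Subgroup G) := by
    obtain ⟨a, ha⟩ := IsPGroup.iff_card.1 (P.isPGroup'.to_le (inf_le_right : B ≤ P))
    obtain ⟨c, hc⟩ := IsPGroup.iff_card.1 (P.isPGroup'.to_le (inf_le_left : S ≤ P))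
    rw [ha, hc, ← pow_add]
    apply Sylow.pow_dvd_card_of_pow_dvd_card
    rw [pow_add, ← ha, ← hc]
    have h1 : Nat.card B ∣ Nat.card N := Subgroup.card_dvd_of_le inf_le_left
    have h2 : Nat.card S ∣ Nat.card C := Subgroup.card_dvd_of_le inf_le_right
    have h3 : Nat.card T ∣ Nat.card G := Subgroup.card_subgroup_dvd_card T
    rw [hcardT] at h3
    exact (Nat.mul_dvd_mul h1 h2).trans h3
  -- the map on `P`
  let ψ : ↥(P : Subgroup G) → B := fun y => ⟨g₀⁻¹ * y * g₀ * (y : G)⁻¹, by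
    refine mem_inf.2 ⟨?_, ?_⟩
    · have := hNn.conj_mem _ (hcent y y.2) g₀⁻¹
      have e : g₀⁻¹ * (y : G) * g₀ * (y : G)⁻¹ =
          g₀⁻¹ * ((y : G) * g₀ * (y : G)⁻¹ * g₀⁻¹) * g₀⁻¹⁻¹ := by group
      rw [e]; exact this
    · exact mul_mem (mul_mem (mul_mem (inv_mem hg₀P) y.2) hg₀P) (inv_mem y.2)⟩
  have hcardP : Nat.card (P : Subgroup G) = Nat.card (Set.range ψ) * Nat.card S := by
    have h1 := Cfsg.Agent.Lib.FGStruct.Camina.card_eq_range_mul ψ (C.subgroupOf (P : Subgroup G)) (by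
      intro x y
      rw [mem_subgroupOf, hmemC]
      have e1 : ψ x = ψ y ↔ g₀⁻¹ * (x : G) * g₀ * (x : G)⁻¹ = g₀⁻¹ * (y : G) * g₀ * (y : G)⁻¹ :=
        Subtype.ext_iff
      rw [e1]
      simp only [Subgroup.coe_mul, Subgroup.coe_inv]
      constructor
      · intro e
        have e2 : (x : G) * g₀ * (x : G)⁻¹ = (y : G) * g₀ * (y : G)⁻¹ := by
          have := congrArg (fun z => g₀ * z) e
          simpa [mul_assoc] using this
        have e3 : g₀ = (x : G)⁻¹ * ((y : G) * g₀ * (y : G)⁻¹) * x := by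
          rw [← e2]; group
        calc (x : G)⁻¹ * y * g₀ = ((x : G)⁻¹ * y) * g₀ * ((x : G)⁻¹ * y)⁻¹ * ((x : G)⁻¹ * y) := by
              group
          _ = ((x : G)⁻¹ * ((y : G) * g₀ * (y : G)⁻¹) * x) * ((x : G)⁻¹ * y) := by group
          _ = g₀ * ((x : G)⁻¹ * y) := by rw [← e3]
      · intro e
        have e2 : (y : G) * g₀ = (x : G) * (g₀ * ((x : G)⁻¹ * y)) := by
          rw [← e]; group
        have e3 : (y : G) * g₀ * (y : G)⁻¹ = (x : G) * g₀ * (x : G)⁻¹ := by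
          rw [e2]; group
        have : g₀⁻¹ * (y : G) * g₀ * (y : G)⁻¹ = g₀⁻¹ * ((y : G) * g₀ * (y : G)⁻¹) := by group
        rw [this, e3]; group)
    have h2 : Nat.card (C.subgroupOf (P : Subgroup G)) = Nat.card S := by
      refine Nat.card_congr ⟨fun x => ⟨x.1.1, mem_inf.2 ⟨x.1.2, x.2⟩⟩,
        fun y => ⟨⟨y.1, (mem_inf.1 y.2).1⟩, (mem_inf.1 y.2).2⟩, fun _ => rfl, fun _ => rfl⟩
    rw [h1, h2]
  have hSpos : 0 < Nat.card S := Nat.card_pos
  have hsurj : Function.Surjective ψ := by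
    rw [← Set.range_eq_univ]
    apply Set.eq_of_subset_of_ncard_le (Set.subset_univ _) _ Set.finite_univ
    rw [Set.ncard_univ, ← Nat.card_coe_set_eq]
    have h1 : Nat.card B * Nat.card S ≤ Nat.card (Set.range ψ) * Nat.card S := by
      rw [← hcardP]
      exact Nat.le_of_dvd Nat.card_pos hdvd
    exact Nat.le_of_mul_le_mul_right h1 hSpos
  obtain ⟨w, hw⟩ := hsurj ⟨b, mem_inf.2 ⟨hbN, hbP⟩⟩
  refine ⟨w, w.2, ?_⟩
  have h1 : g₀⁻¹ * (w : G) * g₀ * (w : G)⁻¹ = b := congrArg Subtype.val hw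
  rw [← h1]; group


end Trans

variable {G : Type*} [Group G] [Finite G]

lemma orderOf_of_isConj {X : Type*} [Group X] {x y : X} (h : IsConj x y) : orderOf x = orderOf y := by
  obtain ⟨a, rfl⟩ := isConj_iff.1 h
  exact (orderOf_injective (MulAut.conj a).toMonoidHom (MulEquiv.injective _) x).symm

/-- The main reduction. -/
theorem solvable_of_data (K : Subgroup G) [hKn : K.Normal] (g : G) (hKG : K ≤ commutator G)
    (hg : g ∈ commutator G) (hgK : g ∉ K) (ha : ∀ x ∈ commutator G, x ∉ K → IsConj g x)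
    (hb : ∀ x, x ∉ commutator G → ∀ k ∈ commutator G, ∃ y, (x * k)⁻¹ * (y * x * y⁻¹) ∈ K) :
    Group.IsSolvable G := by
  classical
  set D : Subgroup G := commutator G with hD
  haveI hDn : D.Normal := by rw [hD]; infer_instance
  -- the prime
  have hπ : ∀ x : G, (x : G ⧸ K) = 1 ↔ x ∈ K := fun x => QuotientGroup.eq_one_iff x
  have ho1 : orderOf (g : G ⧸ K) ≠ 1 := fun h1 => hgK ((hπ g).1 (orderOf_eq_one_iff.1 h1))
  obtain ⟨p, hp, hpd⟩ := Nat.exists_prime_and_dvd ho1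
  haveI : Fact p.Prime := ⟨hp⟩
  have ho0 : orderOf (g : G ⧸ K) ≠ 0 := (orderOf_pos _).ne'
  have hconjord : ∀ x y : G, IsConj x y → orderOf (x : G ⧸ K) = orderOf (y : G ⧸ K) := by
    intro x y hxy
    obtain ⟨a, rfl⟩ := isConj_iff.1 hxy
    have : ((a * x * a⁻¹ : G) : G ⧸ K) = (a : G ⧸ K) * (x : G ⧸ K) * (a : G ⧸ K)⁻¹ := rfl
    rw [this]
    exact orderOf_of_isConj (isConj_iff.2 ⟨_, rfl⟩ : IsConj (x : G ⧸ K) _)
  -- `g` has order `p` modulo `K`
  have hordp : orderOf (g : G ⧸ K) = p := by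
    have h1 := orderOf_pow_orderOf_div ho0 hpd
    set k := orderOf (g : G ⧸ K) / p with hk
    have h2 : ((g ^ k : G) : G ⧸ K) = (g : G ⧸ K) ^ k := rfl
    have hgkD : g ^ k ∈ D := D.pow_mem hg k
    have hgkK : g ^ k ∉ K := by
      intro h3
      have h4 := (hπ _).2 h3
      rw [h2] at h4
      rw [h4, orderOf_one] at h1
      exact hp.one_lt.ne h1
    have h3 := hconjord _ _ (ha _ hgkD hgkK)
    rw [h3, h2, h1]
  have hpowK : ∀ x ∈ D, x ^ p ∈ K := by
    intro x hx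
    by_cases hxK : x ∈ K
    · exact K.pow_mem hxK p
    · have h1 := hconjord _ _ (ha x hx hxK)
      rw [hordp] at h1
      rw [← hπ, QuotientGroup.mk_pow, h1, pow_orderOf_eq_one]
  -- `g` is a `p`-element
  obtain ⟨i, hi⟩ : ∃ i : ℕ, orderOf g = p ^ i := by
    have h0 : orderOf g ≠ 0 := (orderOf_pos g).ne'
    obtain ⟨i, m, hm, him⟩ := Nat.exists_eq_pow_mul_and_not_dvd h0 p hp.ne_one
    have hm0 : m ≠ 0 := by
      rintro rfl
      exact hm (dvd_zero p)
    have h1 : g ^ m ∉ K := by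
      intro h3
      have h4 : (g : G ⧸ K) ^ m = 1 := (hπ _).2 h3
      have h5 := orderOf_dvd_of_pow_eq_one h4
      rw [hordp] at h5
      exact hm h5
    have h2 := ha _ (D.pow_mem hg m) h1
    have h3 : orderOf g = orderOf (g ^ m) := orderOf_of_isConj h2
    rw [orderOf_pow' g hm0, him, Nat.gcd_eq_right (dvd_mul_left m (p ^ i)),
      Nat.mul_div_cancel _ (Nat.pos_of_ne_zero hm0)] at h3
    exact ⟨i, by rw [him, h3]⟩
  have hordD : ∀ x ∈ D, x ∉ K → orderOf x = p ^ i := by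
    intro x hx hxK
    rw [← hi]
    exact (orderOf_of_isConj (ha x hx hxK)).symm
  -- a Sylow subgroup containing `g`
  have hgp : IsPGroup p (zpowers g) := by
    apply IsPGroup.of_card (n := i)
    rw [Nat.card_zpowers, hi]
  obtain ⟨P₀, hP₀⟩ := hgp.exists_le_sylow
  have hgP₀ : g ∈ (P₀ : Subgroup G) := hP₀ (mem_zpowers g)
  -- a central element modulo `K`
  obtain ⟨g₀, hg₀P, hg₀D, hg₀K, hcent⟩ : ∃ g₀ ∈ (P₀ : Subgroup G), g₀ ∈ D ∧ g₀ ∉ K ∧
      ∀ y ∈ (P₀ : Subgroup G), y * g₀ * y⁻¹ * g₀⁻¹ ∈ K := by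
    let f : ↥(P₀ : Subgroup G) →* G ⧸ K := (QuotientGroup.mk' K).comp (P₀ : Subgroup G).subtype
    have hQp : IsPGroup p f.range :=
      IsPGroup.of_surjective P₀.isPGroup' f.rangeRestrict f.rangeRestrict_surjective
    let V : Subgroup (G ⧸ K) := D.map (QuotientGroup.mk' K)
    haveI hVn : V.Normal := Subgroup.Normal.map hDn _ (QuotientGroup.mk'_surjective K)
    let B : Subgroup f.range := V.subgroupOf f.range
    haveI hBn : B.Normal := inferInstance
    have hne : B ≠ ⊥ := by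
      intro h0
      have h1 : (⟨f ⟨g, hgP₀⟩, ⟨⟨g, hgP₀⟩, rfl⟩⟩ : f.range) ∈ B := by
        show f ⟨g, hgP₀⟩ ∈ V
        exact ⟨g, hg, rfl⟩
      rw [h0] at h1
      have h2 : f ⟨g, hgP₀⟩ = 1 := congrArg Subtype.val (mem_bot.1 h1)
      exact hgK ((hπ g).1 h2)
    obtain ⟨z, hzB, hzc, hzo⟩ := Cfsg.Agent.Lib.PGroups.Basic.exists_central_orderOf_eq hQp B hne
    obtain ⟨⟨g₀, hg₀⟩, hz⟩ := z.2
    have hzz : (g₀ : G ⧸ K) = (z : G ⧸ K) := hz
    refine ⟨g₀, hg₀, ?_, ?_, ?_⟩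
    · obtain ⟨x, hx, hxz⟩ := (show (z : G ⧸ K) ∈ V from hzB)
      have h1 : (x : G ⧸ K) = (g₀ : G ⧸ K) := by
        rw [hzz]; exact hxz
      have h2 := QuotientGroup.eq.1 h1
      have h3 : g₀ = x * (x⁻¹ * g₀) := by group
      rw [h3]
      exact D.mul_mem hx (hKG h2)
    · intro hN
      have h1 : (z : G ⧸ K) = 1 := by
        rw [← hzz]; exact (hπ g₀).2 hN
      have h2 : z = 1 := Subtype.ext h1
      rw [h2, orderOf_one] at hzo
      exact hp.ne_one hzo.symm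
    · intro y hy
      have h1 := mem_center_iff.1 hzc ⟨f ⟨y, hy⟩, ⟨⟨y, hy⟩, rfl⟩⟩
      have h2 : f ⟨y, hy⟩ * (z : G ⧸ K) = (z : G ⧸ K) * f ⟨y, hy⟩ :=
        congrArg Subtype.val h1
      rw [← hzz] at h2
      rw [← hπ]
      change (y : G ⧸ K) * (g₀ : G ⧸ K) * (y : G ⧸ K)⁻¹ * (g₀ : G ⧸ K)⁻¹ = 1
      have h3 : (y : G ⧸ K) * (g₀ : G ⧸ K) = (g₀ : G ⧸ K) * (y : G ⧸ K) := h2
      rw [h3]; group
  -- the normal `p`-complement of `K`
  have hcompl : HasNormalPComplement p K := by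
    apply Cfsg.Agent.Lib.Transfer.Tate.hasNormalPComplement_of_inf_le_frattini P₀ K
    intro b hb
    have hh₀ : ∀ n ∈ K, ∃ x : G, x * g₀ * x⁻¹ = g₀ * n := by
      intro n hn
      have h1 : g₀ * n ∈ D := D.mul_mem hg₀D (hKG hn)
      have h2 : g₀ * n ∉ K := by
        intro h3
        apply hg₀K
        have : g₀ = g₀ * n * n⁻¹ := by group
        rw [this]
        exact K.mul_mem h3 (K.inv_mem hn)
      exact isConj_iff.1 ((ha g₀ hg₀D hg₀K).symm.trans (ha _ h1 h2))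
    obtain ⟨w, hw, hwb⟩ := exists_conj_eq_mul' hh₀ P₀ hg₀P hg₀K hcent hb.1 hb.2
    refine ⟨⟨b, hb.2⟩, ?_, rfl⟩
    apply Cfsg.Agent.Lib.PGroups.Basic.commutator_le_frattini P₀.isPGroup'
    have e : (⟨b, hb.2⟩ : ↥(P₀ : Subgroup G)) = ⁅(⟨g₀⁻¹, inv_mem hg₀P⟩ : ↥(P₀ : Subgroup G)), ⟨w, hw⟩⁆ := by
      apply Subtype.ext
      have : b = g₀⁻¹ * (w * g₀ * w⁻¹) := by rw [hwb]; group
      simp only [commutatorElement_def, Subgroup.coe_mul, Subgroup.coe_inv, inv_inv]
      rw [this]; group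
    rw [e]
    exact Subgroup.commutator_mem_commutator (mem_top _) (mem_top _)
  set W : Subgroup G := Cfsg.Agent.Lib.FGStruct.Camina.compl p K with hW
  haveI hWn : W.Normal := Cfsg.Agent.Lib.FGStruct.Camina.compl_normal p K
  have hWK : W ≤ K := Cfsg.Agent.Lib.FGStruct.Camina.compl_le p K
  have hWmem : ∀ x, x ∈ W ↔ x ∈ K ∧ (orderOf x).Coprime p :=
    fun x => Cfsg.Agent.Lib.FGStruct.Camina.mem_compl hcompl
  have hWc : (Nat.card W).Coprime p := Cfsg.Agent.Lib.FGStruct.Camina.coprime_card_compl hcompl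
  -- the quotient by `W`
  let φ := QuotientGroup.mk' W
  have hφ : ∀ x : G, φ x = (x : G ⧸ W) := fun _ => rfl
  have hφs : Function.Surjective φ := QuotientGroup.mk'_surjective W
  have hφW : ∀ x : G, φ x = 1 ↔ x ∈ W := fun x => QuotientGroup.eq_one_iff x
  let P : Subgroup (G ⧸ W) := D.map φ
  let T : Subgroup (G ⧸ W) := K.map φ
  haveI hPn : P.Normal := Subgroup.Normal.map hDn _ hφs
  haveI hTn : T.Normal := Subgroup.Normal.map hKn _ hφs
  have hmemP : ∀ x, φ x ∈ P ↔ x ∈ D := by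
    intro x
    constructor
    · rintro ⟨y, hy, hyx⟩
      have h1 : (y : G ⧸ W) = x := hyx
      have h2 := QuotientGroup.eq.1 h1
      have h3 : x = y * (y⁻¹ * x) := by group
      rw [h3]
      exact D.mul_mem hy (hKG (hWK h2))
    · intro hx
      exact ⟨x, hx, rfl⟩
  have hmemT : ∀ x, φ x ∈ T ↔ x ∈ K := by
    intro x
    constructor
    · rintro ⟨y, hy, hyx⟩
      have h1 : (y : G ⧸ W) = x := hyx
      have h2 := QuotientGroup.eq.1 h1
      have h3 : x = y * (y⁻¹ * x) := by group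
      rw [h3]
      exact K.mul_mem hy (hWK h2)
    · intro hx
      exact ⟨x, hx, rfl⟩
  have hPp : IsPGroup p P := by
    rintro ⟨_, x, hx, rfl⟩
    have h1 := hpowK x hx
    have h0 : orderOf (x ^ p) ≠ 0 := (orderOf_pos _).ne'
    obtain ⟨a, m, hm, ham⟩ := Nat.exists_eq_pow_mul_and_not_dvd h0 p hp.ne_one
    refine ⟨a + 1, ?_⟩
    apply Subtype.ext
    show φ x ^ p ^ (a + 1) = 1
    rw [← map_pow, hφW, hWmem]
    have e : x ^ p ^ (a + 1) = (x ^ p) ^ p ^ a := by
      rw [← pow_mul, pow_succ']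
    rw [e]
    refine ⟨K.pow_mem h1 _, ?_⟩
    rw [orderOf_pow' _ (pow_ne_zero _ hp.ne_zero), ham, Nat.gcd_eq_right (dvd_mul_right _ _),
      Nat.mul_div_cancel_left _ (pow_pos hp.pos _)]
    exact ((Nat.Prime.coprime_iff_not_dvd hp).2 hm).symm
  have hcore : Core p P T (φ g) := by
    refine ⟨?_, ?_, hPp, ⟨g, hg, rfl⟩, fun h1 => hgK ((hmemT g).1 h1), ?_, ?_⟩
    · show commutator (G ⧸ W) = (commutator G).map φ
      rw [_root_.commutator_def, _root_.commutator_def, Subgroup.map_commutator]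
      have h4 : (⊤ : Subgroup G).map φ = ⊤ := by
        rw [← MonoidHom.range_eq_map, MonoidHom.range_eq_top]
        exact hφs
      rw [h4]
    · exact Subgroup.map_mono hKG
    · rintro _ ⟨x, hx, rfl⟩ hxT
      have hxK : x ∉ K := fun h1 => hxT ((hmemT x).2 h1)
      obtain ⟨a, ha'⟩ := isConj_iff.1 (ha x hx hxK)
      refine isConj_iff.2 ⟨φ a, ?_⟩
      rw [← ha']
      simp only [map_mul, map_inv]
    · intro y hy k hk
      obtain ⟨x, rfl⟩ := hφs y
      obtain ⟨k', hk', rfl⟩ := hk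
      have hxD : x ∉ D := fun h1 => hy ((hmemP x).2 h1)
      obtain ⟨a, ha'⟩ := hb x hxD k' hk'
      refine ⟨φ a, ?_⟩
      have e := (hmemT _).2 ha'
      simpa only [map_mul, map_inv] using e
  have hmain := hcore.main
  -- the order of `g`
  have hgpow : g ^ p = 1 ∨ (p = 2 ∧ g ^ 4 = 1) := by
    rcases hmain with h1 | ⟨h1, h2⟩
    · left
      rw [← map_pow, hφW] at h1
      have h3 : (g ^ p) ^ p ^ i = 1 := by
        rw [← pow_mul, mul_comm, pow_mul, ← hi, pow_orderOf_eq_one, one_pow]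
      exact Cfsg.Agent.Lib.FGStruct.Camina.eq_one_of_mem_coprime hWc h1 h3
    · right
      refine ⟨h1, ?_⟩
      rw [← map_pow, hφW] at h2
      have h3 : (g ^ 4) ^ p ^ i = 1 := by
        rw [← pow_mul, mul_comm, pow_mul, ← hi, pow_orderOf_eq_one, one_pow]
      exact Cfsg.Agent.Lib.FGStruct.Camina.eq_one_of_mem_coprime hWc h2 h3
  -- `g` acts fixed point freely on `W`
  have hfree : ∀ y ∈ W, g * y * g⁻¹ = y → y = 1 := by
    intro y hy hgy
    have hc : Commute g y := by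
      show g * y = y * g
      calc g * y = g * y * g⁻¹ * g := by group
        _ = y * g := by rw [hgy]
    have h1 : g * y ∈ D := D.mul_mem hg (hKG (hWK hy))
    have h2 : g * y ∉ K := by
      intro h3
      apply hgK
      have : g = g * y * y⁻¹ := by group
      rw [this]
      exact K.mul_mem h3 (K.inv_mem (hWK hy))
    have h3 := hordD _ h1 h2
    have h4 : (g * y) ^ p ^ i = 1 := by
      rw [← h3]; exact pow_orderOf_eq_one _
    rw [hc.mul_pow] at h4
    have h5 : g ^ p ^ i = 1 := by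
      rw [← hi]; exact pow_orderOf_eq_one _
    rw [h5, one_mul] at h4
    exact Cfsg.Agent.Lib.FGStruct.Camina.eq_one_of_mem_coprime hWc hy h4
  have hg1 : g ≠ 1 := fun h1 => hgK (h1 ▸ K.one_mem)
  have hWsol : Group.IsSolvable W := by
    rcases hgpow with h1 | ⟨h1, h2⟩
    · have hnil : Group.IsNilpotent W := by
        apply Cfsg.Agent.Lib.Coprime.FrobCountGroup.isNilpotent_of_fpf W (zpowers g)
        · intro h0
          exact hg1 (zpowers_eq_bot.1 h0)
        · rw [zpowers_le, normalizer_eq_top]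
          trivial
        · intro e he he1 u hu heu
          obtain ⟨k, rfl⟩ := (mem_powers_iff_mem_zpowers).2 he
          have hk : Nat.Coprime k p := by
            rw [Nat.coprime_comm, Nat.Prime.coprime_iff_not_dvd hp]
            rintro ⟨c, rfl⟩
            apply he1
            show g ^ (p * c) = 1
            rw [pow_mul, h1, one_pow]
          apply hfree u hu
          let S : Subgroup G := centralizer ({u} : Set G)
          have hS : ∀ a : G, a ∈ S ↔ a * u = u * a := fun a => mem_centralizer_singleton_iff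
          have h2 : g ^ k ∈ S := by
            rw [hS]
            have heu' : g ^ k * u * (g ^ k)⁻¹ = u := heu
            calc g ^ k * u = g ^ k * u * (g ^ k)⁻¹ * g ^ k := by group
              _ = u * g ^ k := by rw [heu']
          have h3 : g ^ p ∈ S := by rw [h1]; exact S.one_mem
          have h4 := (hS g).1 (Cfsg.Agent.Lib.FGStruct.Camina.mem_of_pow_mem_of_coprime S hk h2 h3)
          rw [h4]; group
      infer_instance
    · let σ : MulAut W := MulAut.conjNormal g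
      have hσ : ∀ x : W, ((σ x : W) : G) = g * x * g⁻¹ := fun x => rfl
      apply Cfsg.Agent.Lib.GH.Basic.solvable_of_fpf4 σ
      refine ⟨?_, ?_⟩
      · intro x
        apply Subtype.ext
        simp only [hσ]
        have e : g * (g * (g * (g * (x : G) * g⁻¹) * g⁻¹) * g⁻¹) * g⁻¹ = g ^ 4 * x * (g ^ 4)⁻¹ := by
          simp only [pow_succ, pow_zero, one_mul]
          group
        rw [e, h2]
        group
      · intro x hx
        apply Subtype.ext
        exact hfree x x.2 (congrArg Subtype.val hx)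
  -- `G / W` is solvable
  have hΓsol : Group.IsSolvable (G ⧸ W) := by
    haveI : Group.IsNilpotent P := hPp.isNilpotent
    haveI hP1 : Group.IsSolvable P := inferInstance
    have hcomm : commutator (G ⧸ W) = P := hcore.comm_eq
    haveI hP2 : Group.IsSolvable ((G ⧸ W) ⧸ P) := by
      apply Group.isSolvable_of_comm
      intro a b
      obtain ⟨a, rfl⟩ := QuotientGroup.mk_surjective a
      obtain ⟨b, rfl⟩ := QuotientGroup.mk_surjective b
      have h1 : ⁅a, b⁆ ∈ P := by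
        rw [← hcomm]
        exact Subgroup.commutator_mem_commutator (mem_top a) (mem_top b)
      have h2 : ((⁅a, b⁆ : G ⧸ W) : (G ⧸ W) ⧸ P) = 1 := (QuotientGroup.eq_one_iff _).2 h1
      rw [commutatorElement_def] at h2
      have h3 : (a : (G ⧸ W) ⧸ P) * (b : (G ⧸ W) ⧸ P) * (a : (G ⧸ W) ⧸ P)⁻¹ * (b : (G ⧸ W) ⧸ P)⁻¹ = 1 := h2
      calc (a : (G ⧸ W) ⧸ P) * (b : (G ⧸ W) ⧸ P) =
          ((a : (G ⧸ W) ⧸ P) * (b : (G ⧸ W) ⧸ P) * (a : (G ⧸ W) ⧸ P)⁻¹ * (b : (G ⧸ W) ⧸ P)⁻¹) *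
            ((b : (G ⧸ W) ⧸ P) * (a : (G ⧸ W) ⧸ P)) := by group
        _ = _ := by rw [h3, one_mul]
    refine Group.isSolvable_of_ker_le_range P.subtype (QuotientGroup.mk' P) ?_
    rw [QuotientGroup.ker_mk', range_subtype]
  refine Group.isSolvable_of_ker_le_range W.subtype φ ?_
  rw [QuotientGroup.ker_mk', range_subtype]

end Cfsg.Agent.Lib.NC.Reduce
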